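import Groth.Agent.Lib.EulerPush13.Basic
import Groth.Agent.Lib.VanFib13.Apply
import Groth.Agent.Lib.Snapper.Positive
import Groth.Agent.Lib.CohFound.RpushHc
import Groth.Agent.Lib.PointBlowUp32.Exceptional
import Groth.Agent.Lib.RegExt.Image
import Groth.Agent.Lib.RelMin32.Factor

/-!
# Euler characteristics of resolutions of surfaces
-/

set_option autoImplicit false
set_option linter.style.haveILetI false
set_option linter.unusedSectionVars false
set_option backward.isDefEq.respectTransparency false
set_option backward.isDefEq.respectTransparency.types false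
set_option maxHeartbeats 1000000

universe u

open CategoryTheory CategoryTheory.Limits AlgebraicGeometry TopologicalSpace Opposite

noncomputable section

namespace Groth.Agent.RatSingEuler13

open CohFound

/-- Vanishing of the stalks of an abelian direct image gives vanishing of the stalks of the module one. -/
theorem subsingleton_stalk_rpush {X Y : Scheme.{u}} (f : X ⟶ Y) [HasInjectiveResolutions X.Modules]
    (M : X.Modules) (p : ℕ) (y : Y)
    (h : IsZero (TopCat.Presheaf.stalk ((Coh.RpushAb f p).obj (Coh.toAb M)).obj y)) :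
    Subsingleton (((Coh.Rpush f p).obj M).presheaf.stalk y) := by
  obtain ⟨a⟩ := CohFound.nonempty_abF_rpush_iso_shPre f M p
  obtain ⟨b⟩ := CohFound.nonempty_rpush_iso_shPre (f.base : CohFound.sp X ⟶ CohFound.sp Y)
    ((CohFound.abF X).obj M) p
  let c : (CohFound.abF Y).obj ((Coh.Rpush f p).obj M) ≅ (Coh.RpushAb f p).obj (Coh.toAb M) := a ≪≫ b.symm
  let G := sheafToPresheaf (Opens.grothendieckTopology (sp Y)) AddCommGrpCat.{u} ⋙ TopCat.Presheaf.stalkFunctor AddCommGrpCat.{u} (y : sp Y)
  have h' : IsZero (G.obj ((CohFound.abF Y).obj ((Coh.Rpush f p).obj M))) := IsZero.of_iso h (G.mapIso c)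
  exact AddCommGrpCat.subsingleton_of_isZero h'

/-- The abelian direct image vanishes if the module one does. -/
theorem isZero_rpushAb_of_rpush {X Y : Scheme.{u}} (f : X ⟶ Y) [HasInjectiveResolutions X.Modules]
    (M : X.Modules) (p : ℕ) (h : IsZero ((Coh.Rpush f p).obj M)) :
    IsZero ((Coh.RpushAb f p).obj (Coh.toAb M)) := by
  obtain ⟨a⟩ := CohFound.nonempty_abF_rpush_iso_shPre f M p
  obtain ⟨b⟩ := CohFound.nonempty_rpush_iso_shPre (f.base : CohFound.sp X ⟶ CohFound.sp Y)
    ((CohFound.abF X).obj M) p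
  let c : (CohFound.abF Y).obj ((Coh.Rpush f p).obj M) ≅ (Coh.RpushAb f p).obj (Coh.toAb M) := a ≪≫ b.symm
  haveI : (CohFound.abF Y).PreservesZeroMorphisms :=
    inferInstanceAs (SheafOfModules.toSheaf Y.ringCatSheaf).PreservesZeroMorphisms
  exact IsZero.of_iso ((CohFound.abF Y).map_isZero h) c.symm

/-- The module direct image vanishes if the abelian one does. -/
theorem isZero_rpush_of_rpushAb {X Y : Scheme.{u}} (f : X ⟶ Y) [HasInjectiveResolutions X.Modules]
    (M : X.Modules) (p : ℕ) (h : IsZero ((Coh.RpushAb f p).obj (Coh.toAb M))) :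
    IsZero ((Coh.Rpush f p).obj M) :=
  Snapper.isZero_of_support_empty (Set.eq_empty_of_forall_notMem fun y hy => hy
    (subsingleton_stalk_rpush f M p y
      ((sheafToPresheaf (Opens.grothendieckTopology (sp Y)) AddCommGrpCat.{u} ⋙
        TopCat.Presheaf.stalkFunctor AddCommGrpCat.{u} (y : sp Y)).map_isZero h)))

variable (k : Type u) [Field k] {X Y : Scheme.{u}} [X.Over (Spec (CommRingCat.of k))]
  [Y.Over (Spec (CommRingCat.of k))] [IsProper (X ↘ Spec (CommRingCat.of k))]
  [IsProper (Y ↘ Spec (CommRingCat.of k))]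

/-- The comparison of Euler characteristics. -/
theorem main (f : X ⟶ Y) (hf : f ≫ (Y ↘ Spec (CommRingCat.of k)) = X ↘ Spec (CommRingCat.of k))
    (hO : IsIso (ClSub.unitToPush f)) (Z : Set Y) (hZc : IsClosed Z) (hZp : ∀ z ∈ Z, IsClosed ({z} : Set Y))
    (h1 : ∀ y : Y, topologicalKrullDim ↥(f ⁻¹' {y} : Set X) ≤ 1)
    (h0 : ∀ y ∉ Z, topologicalKrullDim ↥(f ⁻¹' {y} : Set X) ≤ 0) :
    IsZero ((Coh.RpushAb f 1).obj (Coh.toAb (Coh.structureModule X))) ↔
      Curv2.euler k X (Coh.structureModule X) = Curv2.euler k Y (Coh.structureModule Y) := by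
  haveI : IsProper (f ≫ (Y ↘ Spec (CommRingCat.of k))) := by rw [hf]; infer_instance
  haveI : IsProper f := MorphismProperty.of_postcomp (W := @IsProper) (W' := @IsSeparated) f
    (Y ↘ Spec (CommRingCat.of k)) inferInstance inferInstance
  haveI : IsLocallyNoetherian X := LocallyOfFiniteType.isLocallyNoetherian (X ↘ Spec (CommRingCat.of k))
  haveI : IsLocallyNoetherian Y := LocallyOfFiniteType.isLocallyNoetherian (Y ↘ Spec (CommRingCat.of k))
  haveI : CompactSpace Y := QuasiCompact.compactSpace_of_compactSpace (Y ↘ Spec (CommRingCat.of k))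
  haveI : HasInjectiveResolutions X.Modules := CohFound.hasInjectiveResolutions_modules _
  have hO' : Coh.IsCoh (Coh.structureModule X) := M1.isCoh_structureModule _
  have hst : ∀ (y : Y) (d q : ℕ), topologicalKrullDim ↥(f ⁻¹' {y} : Set X) ≤ (d : WithBot ℕ∞) → d < q →
      Subsingleton (((Coh.Rpush f q).obj (Coh.structureModule X)).presheaf.stalk y) := fun y d q hd hq =>
    subsingleton_stalk_rpush f _ q y
      (VanFib13.isZero_stalk_rpushAb f y d ((VanFib13.dim_fiber f y).trans_le hd) (M1.isQCoh_structureModule X) hq)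
  have hhigh : ∀ q, 2 ≤ q → IsZero ((Coh.Rpush f q).obj (Coh.structureModule X)) := fun q hq =>
    Snapper.isZero_of_support_empty (Set.eq_empty_of_forall_notMem fun y hy =>
      hy (hst y 1 q (by simpa using h1 y) (by omega)))
  have hc : ∀ q, Coh.IsCoh ((Coh.Rpush f q).obj (Coh.structureModule X)) := fun q =>
    CohFound.isCoh_rpush f hO' q
  let R := (Coh.Rpush f 1).obj (Coh.structureModule X)
  have hsub : CohB1.support R ⊆ Z := fun y hy => by
    by_contra hyZ
    exact hy (hst y 0 1 (by simpa using h0 y hyZ) zero_lt_one)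
  let e₀ : (Coh.Rpush f 0).obj (Coh.structureModule X) ≅ Coh.structureModule Y :=
    (Coh.push f).rightDerivedZeroIsoSelf.app _ ≪≫ (@asIso _ _ _ _ (ClSub.unitToPush f) hO).symm
  have key : Curv2.euler k X (Coh.structureModule X) =
      Curv2.euler k Y (Coh.structureModule Y) - Curv2.euler k Y R := by
    rw [EulerPush13.euler_eq_finsum f hf hO',
      finsum_eq_finsetSum_of_support_subset (s := Finset.range 2) _ ?_, Finset.sum_range_succ,
      Finset.sum_range_one, CurveCoh17.euler_iso e₀]
    · simp only [pow_zero, pow_one, one_mul, neg_mul]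
      ring
    · intro i hi
      simp only [Finset.coe_range, Set.mem_Iio]
      by_contra hlt
      refine hi ?_
      simp only [Snapper.euler_of_isZero (hc i) (hhigh i (not_lt.1 hlt)), mul_zero]
  rw [key]
  constructor
  · intro h
    rw [Snapper.euler_of_isZero (hc 1) (isZero_rpush_of_rpushAb f _ 1 h), sub_zero]
  · intro h
    have hR : Curv2.euler k Y R = 0 := by omega
    rcases (CohB1.support R).eq_empty_or_nonempty with he | hne
    · exact isZero_rpushAb_of_rpush f _ 1 (Snapper.isZero_of_support_empty he)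
    exfalso
    haveI : AlgebraicGeometry.IsNoetherian Y := { }
    have hfin : (CohB1.support R).Finite :=
      (RegExt.finite_of_forall_isClosed_singleton hZc hZp).subset hsub
    haveI : T1Space ↥(CohB1.support R) := ⟨fun z => by
      refine Topology.IsInducing.subtypeVal.isClosed_iff.2 ⟨{(z : Y)}, hZp _ (hsub z.2), ?_⟩
      ext w
      simp [Subtype.ext_iff]⟩
    haveI : Finite ↥(CohB1.support R) := hfin.to_subtype
    haveI : Nonempty ↥(CohB1.support R) := hne.to_subtype
    exact (Snapper.euler_pos_of_dim_zero (k := k) (hc 1)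
      (topologicalKrullDim_zero_of_discreteTopology _) hne).ne' hR

omit [Y.Over (Spec (CommRingCat.of k))] [IsProper (Y ↘ Spec (CommRingCat.of k))] [X.Over (Spec (CommRingCat.of k))]
  [IsProper (X ↘ Spec (CommRingCat.of k))] in
/-- Over an open where the morphism is an isomorphism the fibres are points. -/
theorem dim_le_zero {W : Y.Opens} {f : X ⟶ Y} (hW : IsIso (f ∣_ W)) {y : Y} (hy : y ∈ W) :
    topologicalKrullDim ↥(f ⁻¹' {y} : Set X) ≤ 0 := by
  haveI : Subsingleton ↥(f ⁻¹' {y} : Set X) := ⟨fun a b => by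
    haveI := hW
    exact Subtype.ext (PointBlowUp.eq_of_restrict f W (a := a.1) (b := b.1)
      (show f a.1 ∈ W by rw [show f a.1 = y from a.2]; exact hy) ((show f a.1 = y from a.2).trans b.2.symm))⟩
  exact topologicalKrullDim_zero_of_discreteTopology _

end Groth.Agent.RatSingEuler13
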